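import Groth.Prelude.Def_W4c5algebraiztannakaNis
import Mathlib.Topology.Constructible
import Mathlib.AlgebraicGeometry.Morphisms.QuasiSeparated
import Mathlib.AlgebraicGeometry.PullbackCarrier
import Mathlib.AlgebraicGeometry.Morphisms.Immersion
import Groth.Agent.ConstrSets.Basic

/-!
# Composition of Nisnevich flags
-/

universe u

open CategoryTheory AlgebraicGeometry Topology

namespace Groth.Agent.NisLen

open W4c5algebraiztannaka

variable {U Y : Scheme.{u}}

/-- A flag of length `n` from `A` to `B` with sections of `f` on the pieces. -/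
def FlagFrom (f : U ⟶ Y) (A B : Set Y) (n : ℕ) : Prop :=
  ∃ Z : ℕ → Set Y, Z 0 = A ∧ Z n = B ∧
    (∀ i, i < n → Z i ⊆ Z (i + 1)) ∧
    (∀ i, i ≤ n → IsClosed (Z i) ∧ IsConstructible (Z i)) ∧
    ∀ i, i < n → HasSectOver f (Z (i + 1) \ Z i)

theorem flagFrom_refl (f : U ⟶ Y) {A : Set Y} (hA : IsClosed A ∧ IsConstructible A) :
    FlagFrom f A A 0 :=
  ⟨fun _ => A, rfl, rfl, fun i hi => absurd hi (Nat.not_lt_zero i), fun _ _ => hA,
    fun i hi => absurd hi (Nat.not_lt_zero i)⟩

theorem flagFrom_trans (f : U ⟶ Y) {A B C : Set Y} {n m : ℕ} (h : FlagFrom f A B n)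
    (h' : FlagFrom f B C m) : FlagFrom f A C (n + m) := by
  obtain ⟨Z, hZ0, hZn, hZmono, hZcc, hZs⟩ := h
  obtain ⟨Z', hZ0', hZn', hZmono', hZcc', hZs'⟩ := h'
  have key : ∀ i, n ≤ i → (if i ≤ n then Z i else Z' (i - n)) = Z' (i - n) := fun i hi => by
    by_cases hi' : i ≤ n
    · obtain rfl : i = n := le_antisymm hi' hi
      simp [hZn, hZ0']
    · simp [hi']
  refine ⟨fun i => if i ≤ n then Z i else Z' (i - n), ?_, ?_, ?_, ?_, ?_⟩
  · simp [hZ0]
  · by_cases hm : m = 0
    · subst hm
      simp [hZn, ← hZ0', hZn']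
    · simp [show ¬ n + m ≤ n by omega, hZn']
  · intro i hi
    by_cases h1 : i < n
    · simpa [h1.le, Nat.succ_le_of_lt h1] using hZmono i h1
    · dsimp only
      rw [key i (by omega), key (i + 1) (by omega), show i + 1 - n = i - n + 1 by omega]
      exact hZmono' _ (by omega)
  · intro i hi
    by_cases h1 : i ≤ n
    · simpa [h1] using hZcc i h1
    · simpa [h1] using hZcc' (i - n) (by omega)
  · intro i hi
    by_cases h1 : i < n
    · simpa [h1.le, Nat.succ_le_of_lt h1] using hZs i h1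
    · dsimp only
      rw [key i (by omega), key (i + 1) (by omega), show i + 1 - n = i - n + 1 by omega]
      exact hZs' _ (by omega)

theorem flagFrom_of_isNisCoverLen (f : U ⟶ Y) (m : ℕ) (h : IsNisCoverLen f m) :
    FlagFrom f ∅ Set.univ m := by
  obtain ⟨Z, h0, hm, hmono, hcc, hsec⟩ := h.flag
  refine ⟨fun i => Z ⟨min i m, by omega⟩, ?_, ?_, fun i hi => hmono ?_, fun i _ => hcc _, fun i hi => ?_⟩
  · rw [← h0]; exact congrArg Z (Fin.ext (by simp))
  · rw [← hm]; exact congrArg Z (Fin.ext (by simp))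
  · show min i m ≤ min (i + 1) m
    omega
  · have := hsec ⟨i, hi⟩
    convert this using 3 <;> (apply Fin.ext; simp; omega)

theorem isNisCoverLen_of_flagFrom (f : U ⟶ Y) [Etale f] (m : ℕ) (h : FlagFrom f ∅ Set.univ m) :
    IsNisCoverLen f m := by
  obtain ⟨Z, h0, hm, hmono, hcc, hsec⟩ := h
  refine ⟨inferInstance, fun i => Z i, by simpa using h0, by simpa using hm, ?_,
    fun i => hcc i (Nat.lt_succ_iff.1 i.2), fun i => ?_⟩
  · exact Fin.monotone_iff_le_succ.2 fun i => by simpa using hmono i i.2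
  · simpa using hsec i i.2

variable {V W : Scheme.{u}}

theorem isCompact_of_isConstructible {X : Scheme.{u}} [CompactSpace X] [QuasiSeparatedSpace X]
    {s : Set X} (hs : IsConstructible s) : IsCompact s :=
  (ConstrSets.isRetrocompact_of_isConstructible hs).isCompact

theorem flagFrom_piece (f : U ⟶ V) (g : V ⟶ W) [CompactSpace W] [QuasiSeparatedSpace W]
    [CompactSpace V] [QuasiSeparatedSpace V] {A B : Set W} {n : ℕ}
    (hA : IsClosed A ∧ IsConstructible A) (hB : IsClosed B ∧ IsConstructible B) (hAB : A ⊆ B)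
    (hs : HasSectOver g (B \ A)) (hf : FlagFrom f ∅ Set.univ n) : FlagFrom (f ≫ g) A B n := by
  obtain ⟨Z, h0, hn, hmono, hcc, hsec⟩ := hf
  obtain ⟨T, j, s, hj, hr, hsj⟩ := hs
  have := hj
  have hr' : Set.range j = B \ A := hr
  have hAc : IsCompact Aᶜ := (isCompact_of_isConstructible hA.2.compl)
  have hBc : IsCompact Bᶜ := (isCompact_of_isConstructible hB.2.compl)
  have hS : IsCompact (B \ A) := by
    rw [Set.diff_eq, Set.inter_comm]
    exact hAc.inter_right hB.1
  have hT : CompactSpace T := by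
    rw [← isCompact_univ_iff, j.isEmbedding.isInducing.isCompact_iff, Set.image_univ, hr']
    exact hS
  have hsq : QuasiCompact s := by
    have : QuasiSeparatedSpace V := inferInstance
    infer_instance
  let C : ℕ → Set W := fun i => A ∪ j '' (s ⁻¹' Z i)
  have hsub : ∀ i, j '' (s ⁻¹' Z i) ⊆ B \ A := fun i => by
    rw [← hr']; exact Set.image_subset_range _ _
  refine ⟨C, ?_, ?_, fun i hi => Set.union_subset_union_right _ (Set.image_mono (Set.preimage_mono (hmono i hi))),
    fun i hi => ?_, fun i hi => ?_⟩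
  · simp [C, h0]
  · simp only [C, hn, Set.preimage_univ, Set.image_univ, hr']
    rw [Set.union_diff_cancel hAB]
  · have hclosed : IsClosed (C i) := by
      obtain ⟨D, hD, hDs⟩ := j.isEmbedding.isInducing.isClosed_iff.1 ((hcc i hi).1.preimage s.continuous)
      have he : C i = A ∪ (D ∩ B) := by
        simp only [C]
        rw [← hDs, Set.image_preimage_eq_inter_range, hr']
        ext x
        by_cases hx : x ∈ A <;> simp [hx]
      rw [he]
      exact hA.1.union (hD.inter hB.1)
    refine ⟨hclosed, ?_⟩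
    have he : (C i)ᶜ = Bᶜ ∪ j '' (s ⁻¹' (Z i)ᶜ) := by
      ext x
      by_cases hxS : x ∈ B \ A
      · obtain ⟨t, rfl⟩ := hr'.ge hxS
        have hinj := j.isEmbedding.injective
        simp [C, hinj.mem_set_image, hxS.1, hxS.2]
      · have h1 : ∀ S : Set T, x ∉ j '' S := fun S hx => hxS (hr'.le (Set.image_subset_range _ _ hx))
        have h2 : x ∈ A ↔ x ∈ B := ⟨fun h => hAB h, fun h => by
          by_contra h'; exact hxS ⟨h, h'⟩⟩
        simp [C, h1, h2]
    have hc : IsCompact (C i)ᶜ := by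
      rw [he]
      refine hBc.union (IsCompact.image ?_ j.continuous)
      exact s.isCompact_preimage (U := ⟨(Z i)ᶜ, (hcc i hi).1.isOpen_compl⟩) (isCompact_of_isConstructible (hcc i hi).2.compl)
    have := hc.isConstructible (U := (C i)ᶜ) hclosed.isOpen_compl
    simpa using this.compl
  · obtain ⟨T', h, t, hh, hr2, hth⟩ := hsec i hi
    have := hh
    refine ⟨Limits.pullback s h, Limits.pullback.fst s h ≫ j, Limits.pullback.snd s h ≫ t, inferInstance, ?_, ?_⟩
    · have hr2' : Set.range h = Z (i + 1) \ Z i := hr2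
      show Set.range (Limits.pullback.fst s h ≫ j) = _
      rw [Scheme.Hom.comp_base, TopCat.coe_comp, Set.range_comp, Scheme.Pullback.range_fst, hr2',
        Set.preimage_diff, Set.image_diff j.isEmbedding.injective]
      ext x
      simp only [C, Set.mem_diff, Set.mem_union]
      refine ⟨fun hx => ⟨Or.inr hx.1, not_or.2 ⟨(hsub _ hx.1).2, hx.2⟩⟩, fun hx => ?_⟩
      obtain ⟨h1, h2⟩ := hx
      exact ⟨h1.resolve_left fun h => h2 (Or.inl h), fun h => h2 (Or.inr h)⟩
    · rw [← hsj, Category.assoc, ← Category.assoc t, hth, ← Category.assoc, ← Limits.pullback.condition,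
        Category.assoc]

theorem isNisCoverLen_comp (f : U ⟶ V) (g : V ⟶ W) [CompactSpace W] [QuasiSeparatedSpace W]
    [CompactSpace V] [QuasiSeparatedSpace V] (m₁ m₂ : ℕ)
    (h₁ : IsNisCoverLen f m₁) (h₂ : IsNisCoverLen g m₂) : IsNisCoverLen (f ≫ g) (m₁ * m₂) := by
  have := h₁.etale
  have := h₂.etale
  refine isNisCoverLen_of_flagFrom _ _ ?_
  obtain ⟨Z, h0, hm, hmono, hcc, hsec⟩ := flagFrom_of_isNisCoverLen g m₂ h₂
  have key : ∀ b, b ≤ m₂ → FlagFrom (f ≫ g) ∅ (Z b) (m₁ * b) := by
    intro b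
    induction b with
    | zero =>
      intro hb
      rw [← h0, Nat.mul_zero]
      exact flagFrom_refl _ (hcc 0 hb)
    | succ b ih =>
      intro hb
      rw [Nat.mul_succ]
      exact flagFrom_trans _ (ih (by omega)) (flagFrom_piece f g (hcc b (by omega)) (hcc (b + 1) hb)
        (hmono b (by omega)) (hsec b (by omega)) (flagFrom_of_isNisCoverLen f m₁ h₁))
  simpa [hm] using key m₂ le_rfl

end Groth.Agent.NisLen
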